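import Mathlib
import Cfsg.Agent.Lib.Helper39.TwistProj
import Cfsg.Agent.Lib.Helper41.SL2Conj

/-!
# SLMD (S2332): definitions (helper32)

Ambient group `GG F k = SL (Fin 2 ⊕ Fin k) F` (so `n = k + 2`), acting on column vectors.
Block notation: `fromBlocks A M 0 B`, `A : 2 × 2`, `M : 2 × k`, `B : k × k`.

* `iota`   : `SL₂(F) →* GG F k`, `A ↦ diag(A, 1)`            (the group `SL(E)`, `E = ⟨e₀, e₁⟩`)
* `uQ2 M`  : `[[1, M], [0, 1]]`                              (`Q₂`, unipotent radical of `Stab(E)`)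
* `a1El a = uQ2 [a; 0]`, `a2El b = uQ2 [0; b]`               (`A₁`, `A₂`)
* `x12 s = iota (upperU s)`, `x21 s = iota (lowerU s)`, `wE = iota weylW`
* `qEl s a = x12 s * a1El a`                                 (`Q = X₁₂ × A₁`, the transvections with centre `e₀`)
* `levi d0 d1 B h` : `diag(d0, d1, B)` with `d0 * d1 * det B = 1`
-/

set_option autoImplicit false
set_option linter.unusedSectionVars false
set_option linter.unusedVariables false

namespace Cfsg.Agent.Lib.Helper32.SLMD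

open Matrix Cfsg.Agent.Lib.Helper41

variable {F : Type*} [Field F] {k : ℕ}

/-- the ambient group `SL_{k+2}(F)` with block index set -/
abbrev GG (F : Type*) [Field F] (k : ℕ) := Matrix.SpecialLinearGroup (Fin 2 ⊕ Fin k) F

/-- rows of a `2 × k` matrix -/
def rowM (a b : Fin k → F) : Matrix (Fin 2) (Fin k) F := Matrix.of ![a, b]

@[simp] theorem rowM_zero (a b : Fin k → F) (j : Fin k) : rowM a b 0 j = a j := rfl
@[simp] theorem rowM_one (a b : Fin k → F) (j : Fin k) : rowM a b 1 j = b j := rfl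

theorem rowM_add (a b a' b' : Fin k → F) : rowM (a + a') (b + b') = rowM a b + rowM a' b' := by
  ext i j; fin_cases i <;> simp [rowM]

theorem rowM_eta (M : Matrix (Fin 2) (Fin k) F) : rowM (M 0) (M 1) = M := by
  ext i j; fin_cases i <;> simp [rowM]

/-- `Q₂` -/
def uQ2 (M : Matrix (Fin 2) (Fin k) F) : GG F k :=
  ⟨fromBlocks 1 M 0 1, by rw [det_fromBlocks_zero₂₁]; simp⟩

@[simp] theorem coe_uQ2 (M : Matrix (Fin 2) (Fin k) F) :
    ((uQ2 M : GG F k) : Matrix (Fin 2 ⊕ Fin k) (Fin 2 ⊕ Fin k) F) = fromBlocks 1 M 0 1 := rfl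

theorem uQ2_add (M N : Matrix (Fin 2) (Fin k) F) : uQ2 (M + N) = uQ2 M * uQ2 N := by
  apply Subtype.ext
  simp [fromBlocks_multiply, add_comm]

@[simp] theorem uQ2_zero : uQ2 (0 : Matrix (Fin 2) (Fin k) F) = 1 := by
  apply Subtype.ext
  simp [fromBlocks_one]

theorem uQ2_neg (M : Matrix (Fin 2) (Fin k) F) : uQ2 (-M) = (uQ2 M)⁻¹ := by
  rw [eq_inv_iff_mul_eq_one, ← uQ2_add, neg_add_cancel, uQ2_zero]

theorem uQ2_injective : Function.Injective (uQ2 : Matrix (Fin 2) (Fin k) F → GG F k) := by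
  intro M N h
  have := congrArg (fun g : GG F k => (g : Matrix (Fin 2 ⊕ Fin k) (Fin 2 ⊕ Fin k) F).toBlocks₁₂) h
  simpa using this

/-- `Q₂` as a homomorphism from the additive group of `2 × k` matrices -/
def q2Hom : Multiplicative (Matrix (Fin 2) (Fin k) F) →* GG F k where
  toFun M := uQ2 M.toAdd
  map_one' := uQ2_zero
  map_mul' M N := uQ2_add _ _

@[simp] theorem q2Hom_apply (M : Multiplicative (Matrix (Fin 2) (Fin k) F)) :
    q2Hom M = uQ2 M.toAdd := rfl

/-- `SL(E)` -/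
def iota : Matrix.SpecialLinearGroup (Fin 2) F →* GG F k where
  toFun A := ⟨fromBlocks A.1 0 0 1, by rw [det_fromBlocks_zero₂₁]; simp⟩
  map_one' := by apply Subtype.ext; simp [fromBlocks_one]
  map_mul' A B := by
    apply Subtype.ext
    show fromBlocks (A.1 * B.1) 0 0 1 = fromBlocks A.1 0 0 1 * fromBlocks B.1 0 0 1
    simp [fromBlocks_multiply]

@[simp] theorem coe_iota (A : Matrix.SpecialLinearGroup (Fin 2) F) :
    ((iota A : GG F k) : Matrix (Fin 2 ⊕ Fin k) (Fin 2 ⊕ Fin k) F) = fromBlocks A.1 0 0 1 := rfl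

/-- `SL(E)` normalizes `Q₂`, acting by left multiplication on `2 × k` matrices -/
theorem iota_mul_uQ2 (A : Matrix.SpecialLinearGroup (Fin 2) F) (M : Matrix (Fin 2) (Fin k) F) :
    iota A * uQ2 M = uQ2 (A.1 * M) * iota A := by
  apply Subtype.ext
  simp [fromBlocks_multiply]

theorem iota_conj_uQ2 (A : Matrix.SpecialLinearGroup (Fin 2) F) (M : Matrix (Fin 2) (Fin k) F) :
    iota A * uQ2 M * (iota A)⁻¹ = uQ2 (A.1 * M) := by
  rw [iota_mul_uQ2, mul_assoc, mul_inv_cancel, mul_one]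

/-- `diag(d0, d1, B)` -/
def levi (d0 d1 : F) (B : Matrix (Fin k) (Fin k) F) (h : d0 * d1 * B.det = 1) : GG F k :=
  ⟨fromBlocks (diagonal ![d0, d1]) 0 0 B, by
    rw [det_fromBlocks_zero₂₁, det_diagonal]; simpa [Fin.prod_univ_two] using h⟩

@[simp] theorem coe_levi (d0 d1 : F) (B : Matrix (Fin k) (Fin k) F) (h : d0 * d1 * B.det = 1) :
    ((levi d0 d1 B h : GG F k) : Matrix (Fin 2 ⊕ Fin k) (Fin 2 ⊕ Fin k) F) =
      fromBlocks (diagonal ![d0, d1]) 0 0 B := rfl

/-- `diag(d0,d1,B) * uQ2 M = uQ2 M' * diag(d0,d1,B)` whenever `diag(d0,d1) * M = M' * B` -/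
theorem levi_mul_uQ2 (d0 d1 : F) (B : Matrix (Fin k) (Fin k) F) (h : d0 * d1 * B.det = 1)
    (M M' : Matrix (Fin 2) (Fin k) F) (hM : diagonal ![d0, d1] * M = M' * B) :
    levi d0 d1 B h * uQ2 M = uQ2 M' * levi d0 d1 B h := by
  apply Subtype.ext
  simp [fromBlocks_multiply, hM]

/-- `A₁` -/
def a1El (a : Fin k → F) : GG F k := uQ2 (rowM a 0)
/-- `A₂` -/
def a2El (b : Fin k → F) : GG F k := uQ2 (rowM 0 b)

theorem a1El_mul_a2El (a b : Fin k → F) : a1El a * a2El b = uQ2 (rowM a b) := by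
  rw [a1El, a2El, ← uQ2_add, ← rowM_add, add_zero, zero_add]

theorem a2El_mul_a1El (a b : Fin k → F) : a2El b * a1El a = uQ2 (rowM a b) := by
  rw [a1El, a2El, ← uQ2_add, ← rowM_add, add_zero, zero_add]

def a1Hom : Multiplicative (Fin k → F) →* GG F k where
  toFun a := a1El a.toAdd
  map_one' := by show uQ2 (rowM 0 0) = 1; rw [show rowM (0 : Fin k → F) 0 = 0 from by ext i j; fin_cases i <;> simp [rowM], uQ2_zero]
  map_mul' a b := by
    show uQ2 (rowM (a.toAdd + b.toAdd) 0) = uQ2 (rowM a.toAdd 0) * uQ2 (rowM b.toAdd 0)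
    rw [← uQ2_add, ← rowM_add, add_zero]

def a2Hom : Multiplicative (Fin k → F) →* GG F k where
  toFun b := a2El b.toAdd
  map_one' := by show uQ2 (rowM 0 0) = 1; rw [show rowM (0 : Fin k → F) 0 = 0 from by ext i j; fin_cases i <;> simp [rowM], uQ2_zero]
  map_mul' a b := by
    show uQ2 (rowM 0 (a.toAdd + b.toAdd)) = uQ2 (rowM 0 a.toAdd) * uQ2 (rowM 0 b.toAdd)
    rw [← uQ2_add, ← rowM_add, add_zero]

@[simp] theorem a1Hom_apply (a : Multiplicative (Fin k → F)) : a1Hom a = a1El a.toAdd := rfl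
@[simp] theorem a2Hom_apply (b : Multiplicative (Fin k → F)) : a2Hom b = a2El b.toAdd := rfl

/-- root elements of `SL(E)` inside `GG` -/
def x12 (s : F) : GG F k := iota (upperU s)
def x21 (s : F) : GG F k := iota (lowerU s)
def wE : GG F k := iota weylW

/-- the elements of `Q` (transvections with centre `e₀`): first row `(1, s, a)` -/
def qEl (s : F) (a : Fin k → F) : GG F k := x12 s * a1El a

end Cfsg.Agent.Lib.Helper32.SLMD
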