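import Mathlib
import Cfsg.Agent.Lib.Helper32.SLMD.Defs

/-!
# SLMD (S2332): basic relations between the named elements (helper32)
-/

set_option autoImplicit false
set_option linter.unusedSectionVars false
set_option linter.unusedVariables false

namespace Cfsg.Agent.Lib.Helper32.SLMD

open Matrix Cfsg.Agent.Lib.Helper41

variable {F : Type*} [Field F] {k : ℕ}

theorem upperU_add' (s t : F) : upperU (s + t) = upperU s * upperU t := by
  apply Subtype.ext
  simp [coe_upperU, Matrix.mul_fin_two, add_comm]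

theorem lowerU_add' (s t : F) : lowerU (s + t) = lowerU s * lowerU t := by
  apply Subtype.ext
  simp [coe_lowerU, Matrix.mul_fin_two, add_comm]

theorem upperU_zero' : upperU (0 : F) = 1 := by
  apply Subtype.ext
  simp [coe_upperU, Matrix.one_fin_two]

theorem lowerU_zero' : lowerU (0 : F) = 1 := by
  apply Subtype.ext
  simp [coe_lowerU, Matrix.one_fin_two]

theorem x12_add (s t : F) : (x12 (s + t) : GG F k) = x12 s * x12 t := by
  rw [x12, upperU_add', map_mul]; rfl

theorem x21_add (s t : F) : (x21 (s + t) : GG F k) = x21 s * x21 t := by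
  rw [x21, lowerU_add', map_mul]; rfl

@[simp] theorem x12_zero : (x12 (0 : F) : GG F k) = 1 := by rw [x12, upperU_zero', map_one]
@[simp] theorem x21_zero : (x21 (0 : F) : GG F k) = 1 := by rw [x21, lowerU_zero', map_one]

theorem x12_neg (s : F) : (x12 (-s) : GG F k) = (x12 s)⁻¹ := by
  rw [eq_inv_iff_mul_eq_one, ← x12_add, neg_add_cancel, x12_zero]

theorem x21_neg (s : F) : (x21 (-s) : GG F k) = (x21 s)⁻¹ := by
  rw [eq_inv_iff_mul_eq_one, ← x21_add, neg_add_cancel, x21_zero]

theorem upperU_mul_rowM (s : F) (a b : Fin k → F) :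
    (upperU s).1 * rowM a b = rowM (a + s • b) b := by
  ext i j
  fin_cases i <;> simp [coe_upperU, Matrix.mul_apply, Fin.sum_univ_two, rowM]

theorem lowerU_mul_rowM (s : F) (a b : Fin k → F) :
    (lowerU s).1 * rowM a b = rowM a (b + s • a) := by
  ext i j
  fin_cases i <;> simp [coe_lowerU, Matrix.mul_apply, Fin.sum_univ_two, rowM, add_comm]

theorem weylW_mul_rowM (a b : Fin k → F) :
    (weylW : Matrix.SpecialLinearGroup (Fin 2) F).1 * rowM a b = rowM (-b) a := by
  ext i j
  fin_cases i <;> simp [coe_weylW, Matrix.mul_apply, Fin.sum_univ_two, rowM]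

/-- `x12 s` acts on `Q₂` by `[a; b] ↦ [a + s b; b]` -/
theorem x12_conj_uQ2 (s : F) (a b : Fin k → F) :
    x12 s * uQ2 (rowM a b) * (x12 s)⁻¹ = uQ2 (rowM (a + s • b) b) := by
  rw [x12, iota_conj_uQ2, upperU_mul_rowM]

/-- `x21 s` acts on `Q₂` by `[a; b] ↦ [a; b + s a]` -/
theorem x21_conj_uQ2 (s : F) (a b : Fin k → F) :
    x21 s * uQ2 (rowM a b) * (x21 s)⁻¹ = uQ2 (rowM a (b + s • a)) := by
  rw [x21, iota_conj_uQ2, lowerU_mul_rowM]

/-- `wE` acts on `Q₂` by `[a; b] ↦ [-b; a]` -/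
theorem wE_conj_uQ2 (a b : Fin k → F) :
    (wE : GG F k) * uQ2 (rowM a b) * wE⁻¹ = uQ2 (rowM (-b) a) := by
  rw [wE, iota_conj_uQ2, weylW_mul_rowM]

theorem wE_conj_a1El (a : Fin k → F) : (wE : GG F k) * a1El a * wE⁻¹ = a2El a := by
  rw [a1El, wE_conj_uQ2, neg_zero]; rfl

theorem wE_conj_a2El (b : Fin k → F) : (wE : GG F k) * a2El b * wE⁻¹ = a1El (-b) := by
  rw [a2El, wE_conj_uQ2]; rfl

theorem wE_conj_x12 (s : F) : (wE : GG F k) * x12 s * wE⁻¹ = x21 (-s) := by
  rw [wE, x12, x21, ← map_inv, ← map_mul, ← map_mul]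
  congr 1
  apply Subtype.ext
  rw [Matrix.SpecialLinearGroup.coe_mul, Matrix.SpecialLinearGroup.coe_mul,
    Matrix.SpecialLinearGroup.coe_inv, coe_weylW, coe_upperU, coe_lowerU, Matrix.adjugate_fin_two_of]
  ext i j
  fin_cases i <;> fin_cases j <;> simp [Matrix.mul_apply, Fin.sum_univ_two]

theorem x12_comm_a1El (s : F) (a : Fin k → F) : x12 s * a1El a = a1El a * x12 s := by
  have h := x12_conj_uQ2 s a (0 : Fin k → F)
  rw [smul_zero, add_zero] at h
  have h2 := congrArg (· * x12 s) h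
  simp only [inv_mul_cancel_right] at h2
  exact h2

theorem x21_comm_a2El (s : F) (b : Fin k → F) : x21 s * a2El b = a2El b * x21 s := by
  have h := x21_conj_uQ2 s (0 : Fin k → F) b
  rw [smul_zero, add_zero] at h
  have h2 := congrArg (· * x21 s) h
  simp only [inv_mul_cancel_right] at h2
  exact h2

theorem a1El_add (a a' : Fin k → F) : a1El (a + a') = a1El a * a1El a' := by
  rw [a1El, a1El, a1El, ← uQ2_add, ← rowM_add, add_zero]

theorem a2El_add (b b' : Fin k → F) : a2El (b + b') = a2El b * a2El b' := by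
  rw [a2El, a2El, a2El, ← uQ2_add, ← rowM_add, add_zero]

theorem qEl_mul (s s' : F) (a a' : Fin k → F) :
    qEl s a * qEl s' a' = qEl (s + s') (a + a') := by
  unfold qEl
  rw [x12_add, a1El_add, mul_assoc, mul_assoc, ← mul_assoc (a1El a), ← x12_comm_a1El s' a]
  group

@[simp] theorem qEl_zero : qEl (0 : F) (0 : Fin k → F) = 1 := by
  unfold qEl
  rw [x12_zero, a1El, show rowM (0 : Fin k → F) 0 = 0 from by ext i j; fin_cases i <;> simp [rowM],
    uQ2_zero, one_mul]

/-- `Q` as a homomorphism from `F × F^k` -/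
def qHom : Multiplicative (F × (Fin k → F)) →* GG F k where
  toFun v := qEl v.toAdd.1 v.toAdd.2
  map_one' := qEl_zero
  map_mul' v w := (qEl_mul _ _ _ _).symm

@[simp] theorem qHom_apply (v : Multiplicative (F × (Fin k → F))) :
    qHom v = qEl v.toAdd.1 v.toAdd.2 := rfl

/-- `A₂` normalizes `Q`: `[0;b]` acts by `(s, a) ↦ (s, a - s b)` -/
theorem a2El_conj_qEl (b : Fin k → F) (s : F) (a : Fin k → F) :
    a2El b * qEl s a * (a2El b)⁻¹ = qEl s (a - s • b) := by
  have h := x12_conj_uQ2 (-s) (0 : Fin k → F) b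
  rw [x12_neg, inv_inv, zero_add] at h
  -- (x12 s)⁻¹ * a2El b * x12 s = uQ2 [(-s) b; b]
  have h2 : a2El b * x12 s = x12 s * uQ2 (rowM ((-s) • b) b) := by
    rw [← h]; unfold a2El; group
  unfold qEl
  rw [← mul_assoc, h2, mul_assoc, mul_assoc]
  congr 1
  rw [a1El, a2El, ← uQ2_neg, ← uQ2_add, ← uQ2_add, a1El]
  congr 1
  ext i j
  fin_cases i <;> simp [rowM, sub_eq_add_neg, add_comm]

end Cfsg.Agent.Lib.Helper32.SLMD

namespace Cfsg.Agent.Lib.Helper32.SLMD

open Matrix Cfsg.Agent.Lib.Helper41 Cfsg.Agent.Lib.Helper39 Module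

variable {F : Type*} [Field F] {k : ℕ}

/-- root subgroup `X_{0,j}` (inside `A₁`) -/
def x1Hom (j : Fin k) : Multiplicative F →* GG F k where
  toFun s := a1El (Pi.single j s.toAdd)
  map_one' := by
    show a1El (Pi.single j (0 : F)) = 1
    rw [Pi.single_zero]; exact a1Hom.map_one
  map_mul' s t := by
    show a1El (Pi.single j (s.toAdd + t.toAdd)) = _
    rw [Pi.single_add, a1El_add]

/-- root subgroup `X_{1,j}` (inside `A₂`) -/
def x2Hom (j : Fin k) : Multiplicative F →* GG F k where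
  toFun s := a2El (Pi.single j s.toAdd)
  map_one' := by
    show a2El (Pi.single j (0 : F)) = 1
    rw [Pi.single_zero]; exact a2Hom.map_one
  map_mul' s t := by
    show a2El (Pi.single j (s.toAdd + t.toAdd)) = _
    rw [Pi.single_add, a2El_add]

@[simp] theorem x1Hom_apply (j : Fin k) (s : Multiplicative F) :
    x1Hom j s = (a1El (Pi.single j s.toAdd) : GG F k) := rfl
@[simp] theorem x2Hom_apply (j : Fin k) (s : Multiplicative F) :
    x2Hom j s = (a2El (Pi.single j s.toAdd) : GG F k) := rfl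

/-- `X₁₂` as a homomorphism -/
def x12Hom : Multiplicative F →* GG F k where
  toFun s := x12 s.toAdd
  map_one' := x12_zero
  map_mul' s t := x12_add _ _

/-- `X₂₁` as a homomorphism -/
def x21Hom : Multiplicative F →* GG F k where
  toFun s := x21 s.toAdd
  map_one' := x21_zero
  map_mul' s t := x21_add _ _

@[simp] theorem x12Hom_apply (s : Multiplicative F) : (x12Hom s : GG F k) = x12 s.toAdd := rfl
@[simp] theorem x21Hom_apply (s : Multiplicative F) : (x21Hom s : GG F k) = x21 s.toAdd := rfl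

/-- the character `a ↦ ψ (a j)` of `F^k` -/
def prChar (ψ : Multiplicative F →* ℂˣ) (j : Fin k) : Multiplicative (Fin k → F) →* ℂˣ where
  toFun a := ψ (Multiplicative.ofAdd (a.toAdd j))
  map_one' := by simpa using ψ.map_one
  map_mul' a b := by
    show ψ (Multiplicative.ofAdd ((a.toAdd + b.toAdd) j)) = _
    rw [Pi.add_apply, ofAdd_add, map_mul]

/-- the character `(s, a) ↦ ψ (a j)` of `Q ≅ F × F^k` -/
def qChar (ψ : Multiplicative F →* ℂˣ) (j : Fin k) : Multiplicative (F × (Fin k → F)) →* ℂˣ where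
  toFun v := ψ (Multiplicative.ofAdd (v.toAdd.2 j))
  map_one' := by simpa using ψ.map_one
  map_mul' a b := by
    show ψ (Multiplicative.ofAdd ((a.toAdd + b.toAdd).2 j)) = _
    rw [Prod.snd_add, Pi.add_apply, ofAdd_add, map_mul]

/-- the character `(s, a) ↦ ψ s` of `Q ≅ F × F^k` -/
def sChar (ψ : Multiplicative F →* ℂˣ) : Multiplicative (F × (Fin k → F)) →* ℂˣ where
  toFun v := ψ (Multiplicative.ofAdd v.toAdd.1)
  map_one' := by simpa using ψ.map_one
  map_mul' a b := by
    show ψ (Multiplicative.ofAdd ((a.toAdd + b.toAdd).1)) = _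
    rw [Prod.fst_add, ofAdd_add, map_mul]

section quantities

variable {V : Type*} [AddCommGroup V] [Module ℂ V]

/-- `c = dim C_V(Q)` -/
noncomputable def cQ (ρ : Representation ℂ (GG F k) V) : ℕ :=
  finrank ℂ ↥(eigenSub ρ (qHom : _ →* GG F k) 1)

/-- `h = dim C_V(Q A₂)` -/
noncomputable def hR (ρ : Representation ℂ (GG F k) V) : ℕ :=
  finrank ℂ ↥(eigenSub ρ (qHom : _ →* GG F k) 1 ⊓ eigenSub ρ (a2Hom : _ →* GG F k) 1)

/-- `m = 1`: every non-trivial character of `Q` occurs exactly once -/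
def M1 (ρ : Representation ℂ (GG F k) V) : Prop :=
  ∀ lam : Multiplicative (F × (Fin k → F)) →* ℂˣ, lam ≠ 1 →
    finrank ℂ ↥(eigenSub ρ (qHom : _ →* GG F k) lam) = 1

/-- `t = tr(E_{Q_x} E_{Q_y})` for two distinct points -/
noncomputable def tPair [Fintype F] (ρ : Representation ℂ (GG F k) V) : ℂ :=
  (∑ x : Multiplicative (F × (Fin k → F)), ∑ y : Multiplicative (F × (Fin k → F)),
      ρ.character (wE * qHom x * wE⁻¹ * qHom y)) / ((Fintype.card F : ℂ) ^ (k + 1)) ^ 2

end quantities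

end Cfsg.Agent.Lib.Helper32.SLMD
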