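import Mathlib
import Cfsg.Agent.Lib.Helper32.SLMD.Basic
import Cfsg.Agent.Lib.Helper39.SL2Char

/-!
# SLMD (S2332): second definitions file (helper32)

* `conj_eigenSub`  : `ρ g` maps `eigenSub ρ ν lam` into `eigenSub ρ ν' lam'` when `g⁻¹ ν' g ⊆ ν` compatibly
* `fixRep`         : the representation of `H` on `C_V(ν N)` when `φ H` normalizes `ν N`
* `qHom_injective`, `a1Hom_injective`, `a2Hom_injective`
* `scaleChar ψ t`  : the additive character `a ↦ ψ (t a)`
* `pt0`, `pSub`    : the point `⟨e₀⟩` of projective space and its stabilizer `P`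
* `ttSL2 R`        : `(∑_{a,b} χ_R(lowerU b * upperU a)) / q²` for a representation of `SL₂(F)`
-/

set_option autoImplicit false
set_option linter.unusedSectionVars false
set_option linter.unusedVariables false

namespace Cfsg.Agent.Lib.Helper32.SLMD

open Matrix Cfsg.Agent.Lib.Helper41 Cfsg.Agent.Lib.Helper39 Module
open scoped LinearAlgebra.Projectivization

section generic

variable {G : Type*} [Group G] {N : Type*} [Group N] {N' : Type*} [Group N'] {H : Type*} [Group H]
  {V : Type*} [AddCommGroup V] [Module ℂ V]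

/-- transport of eigenspaces by conjugation -/
theorem conj_eigenSub (ρ : Representation ℂ G V) (ν : N →* G) (ν' : N' →* G) (g : G) (σ : N' → N)
    (hσ : ∀ n', g⁻¹ * ν' n' * g = ν (σ n')) (lam : N →* ℂˣ) (lam' : N' →* ℂˣ)
    (hlam : ∀ n', lam (σ n') = lam' n') {v : V} (hv : v ∈ eigenSub ρ ν lam) :
    ρ g v ∈ eigenSub ρ ν' lam' := by
  rw [mem_eigenSub] at hv ⊢
  intro n'
  have h1 : ν' n' * g = g * ν (σ n') := by rw [← hσ]; group
  rw [← Module.End.mul_apply, ← map_mul, h1, map_mul, Module.End.mul_apply, hv (σ n'), hlam,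
    map_smul]

/-- `C_V(ν N)` is invariant under any `g` normalizing `ν N` -/
theorem eigenSub_one_invariant (ρ : Representation ℂ G V) (ν : N →* G) (g : G)
    (hg : ∀ n : N, ∃ n' : N, g⁻¹ * ν n * g = ν n') {v : V} (hv : v ∈ eigenSub ρ ν 1) :
    ρ g v ∈ eigenSub ρ ν 1 := by
  rw [mem_eigenSub] at hv ⊢
  intro n
  obtain ⟨n', hn'⟩ := hg n
  have h1 : ν n * g = g * ν n' := by rw [← hn']; group
  rw [← Module.End.mul_apply, ← map_mul, h1, map_mul, Module.End.mul_apply, hv n']
  simp

/-- the representation of `H` on `C_V(ν N)` -/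
noncomputable def fixRep (ρ : Representation ℂ G V) (ν : N →* G) (φ : H →* G)
    (hnorm : ∀ (h : H) (n : N), ∃ n' : N, (φ h)⁻¹ * ν n * φ h = ν n') :
    Representation ℂ H ↥(eigenSub ρ ν 1) where
  toFun h := (ρ (φ h)).restrict (fun v hv => eigenSub_one_invariant ρ ν (φ h) (hnorm h) hv)
  map_one' := by
    apply LinearMap.ext; intro v; apply Subtype.ext
    simp [LinearMap.restrict_apply]
  map_mul' h h' := by
    apply LinearMap.ext; intro v; apply Subtype.ext
    simp [LinearMap.restrict_apply]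

@[simp] theorem fixRep_apply_coe (ρ : Representation ℂ G V) (ν : N →* G) (φ : H →* G)
    (hnorm : ∀ (h : H) (n : N), ∃ n' : N, (φ h)⁻¹ * ν n * φ h = ν n') (h : H)
    (v : ↥(eigenSub ρ ν 1)) : ((fixRep ρ ν φ hnorm h v : ↥(eigenSub ρ ν 1)) : V) = ρ (φ h) v := rfl

end generic

variable {F : Type*} [Field F] {k : ℕ}

theorem qEl_injective : Function.Injective (fun v : F × (Fin k → F) => (qEl v.1 v.2 : GG F k)) := by
  rintro ⟨s, a⟩ ⟨s', a'⟩ h
  have hm := congrArg (fun g : GG F k => (g : Matrix (Fin 2 ⊕ Fin k) (Fin 2 ⊕ Fin k) F)) h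
  simp only [qEl, x12, a1El, Matrix.SpecialLinearGroup.coe_mul, coe_iota, coe_uQ2,
    fromBlocks_multiply] at hm
  have h11 := congrArg (fun M => M.toBlocks₁₁ 0 1) hm
  have h12 := congrArg (fun M => M.toBlocks₁₂ 0) hm
  simp [coe_upperU, Matrix.mul_apply, Fin.sum_univ_two, rowM, Matrix.one_apply] at h11
  have h12' : a = a' := by
    funext j
    have := congrFun h12 j
    simpa [coe_upperU, Matrix.mul_apply, Fin.sum_univ_two, rowM, Matrix.one_apply] using this
  exact Prod.ext h11 h12'

theorem qHom_injective : Function.Injective (qHom : Multiplicative (F × (Fin k → F)) →* GG F k) := by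
  intro x y h
  have := qEl_injective (F := F) (k := k) (a₁ := x.toAdd) (a₂ := y.toAdd) h
  exact this

theorem a1El_injective : Function.Injective (a1El : (Fin k → F) → GG F k) := by
  intro a a' h
  have := uQ2_injective h
  have h2 := congrFun this 0
  funext j
  simpa [rowM] using congrFun h2 j

theorem a2El_injective : Function.Injective (a2El : (Fin k → F) → GG F k) := by
  intro a a' h
  have := uQ2_injective h
  have h2 := congrFun this 1
  funext j
  simpa [rowM] using congrFun h2 j

/-- the additive character `a ↦ ψ (t * a)` -/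
def scaleChar (ψ : Multiplicative F →* ℂˣ) (t : F) : Multiplicative F →* ℂˣ where
  toFun a := ψ (Multiplicative.ofAdd (t * a.toAdd))
  map_one' := by simpa using ψ.map_one
  map_mul' a b := by
    show ψ (Multiplicative.ofAdd (t * (a.toAdd + b.toAdd))) = _
    rw [mul_add, ofAdd_add, map_mul]

@[simp] theorem scaleChar_apply (ψ : Multiplicative F →* ℂˣ) (t : F) (a : Multiplicative F) :
    scaleChar ψ t a = ψ (Multiplicative.ofAdd (t * a.toAdd)) := rfl

/-- the point `⟨e₀⟩` -/
noncomputable def pt0 [DecidableEq F] : ℙ F (Fin 2 ⊕ Fin k → F) :=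
  Projectivization.mk F (Pi.single (Sum.inl 0) 1) (by
    intro h
    have := congrFun h (Sum.inl 0)
    simp at this)

/-- `P`, the stabilizer of the point `⟨e₀⟩`; it is the normalizer of `Q` -/
noncomputable def pSub [DecidableEq F] : Subgroup (GG F k) :=
  MulAction.stabilizer (GG F k) (pt0 : ℙ F (Fin 2 ⊕ Fin k → F))

section reps

variable {V : Type*} [AddCommGroup V] [Module ℂ V]

theorem iota_normalizes_q2Hom (A : Matrix.SpecialLinearGroup (Fin 2) F)
    (M : Multiplicative (Matrix (Fin 2) (Fin k) F)) :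
    ∃ M' : Multiplicative (Matrix (Fin 2) (Fin k) F),
      ((iota A : GG F k))⁻¹ * q2Hom M * iota A = q2Hom M' := by
  refine ⟨Multiplicative.ofAdd ((A⁻¹ : Matrix.SpecialLinearGroup (Fin 2) F).1 * M.toAdd), ?_⟩
  have h := iota_conj_uQ2 (k := k) A⁻¹ M.toAdd
  rw [map_inv, inv_inv] at h
  exact h

/-- `Y = C_V(Q₂)` as a representation of `SL₂(F) = SL(E)` -/
noncomputable def yRep (ρ : Representation ℂ (GG F k) V) :
    Representation ℂ (Matrix.SpecialLinearGroup (Fin 2) F) ↥(eigenSub ρ (q2Hom : _ →* GG F k) 1) :=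
  fixRep ρ q2Hom iota iota_normalizes_q2Hom

theorem a2Hom_normalizes_qHom (b : Multiplicative (Fin k → F))
    (x : Multiplicative (F × (Fin k → F))) :
    ∃ x' : Multiplicative (F × (Fin k → F)),
      ((a2Hom b : GG F k))⁻¹ * qHom x * a2Hom b = qHom x' := by
  refine ⟨Multiplicative.ofAdd (x.toAdd.1, x.toAdd.2 - x.toAdd.1 • (-b.toAdd)), ?_⟩
  have h := a2El_conj_qEl (-b.toAdd) x.toAdd.1 x.toAdd.2
  have h2 : (a2El (-b.toAdd) : GG F k) = (a2Hom b)⁻¹ := by
    rw [a2Hom_apply, a2El, a2El, ← uQ2_neg]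
    congr 1
    ext i j; fin_cases i <;> simp [rowM]
  rw [h2, inv_inv] at h
  exact h

/-- `U = C_V(Q)` as a representation of `A₂ ≅ F^k` -/
noncomputable def uRep (ρ : Representation ℂ (GG F k) V) :
    Representation ℂ (Multiplicative (Fin k → F)) ↥(eigenSub ρ (qHom : _ →* GG F k) 1) :=
  fixRep ρ qHom a2Hom a2Hom_normalizes_qHom

end reps

section sl2

variable {V : Type*} [AddCommGroup V] [Module ℂ V]

/-- `t(R) = tr(E_U E_{U⁻})` for a representation `R` of `SL₂(F)` -/
noncomputable def ttSL2 [Fintype F] (R : Representation ℂ (Matrix.SpecialLinearGroup (Fin 2) F) V) : ℂ :=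
  (∑ a : F, ∑ b : F, R.character (lowerU b * upperU a)) / (Fintype.card F : ℂ) ^ 2

end sl2

end Cfsg.Agent.Lib.Helper32.SLMD
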