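import Mathlib
import Cfsg.Agent.Lib.Helper32.SLMD.Defs2
import Cfsg.Agent.Lib.Helper51.SLMD.AddInd
import Cfsg.Agent.Lib.Helper75.SlmdSL2DichIrr

/-!
# SLMD: [SL2-DICH] (helper32 hedge)
-/

set_option autoImplicit false
set_option linter.unusedSectionVars false
set_option linter.unusedVariables false

namespace Cfsg.Agent.Lib.Helper32.SLMD

open Matrix Cfsg.Agent.Lib.Helper41 Cfsg.Agent.Lib.Helper39 Module
open scoped LinearAlgebra.Projectivization

variable {F : Type*} [Field F] [Fintype F] [DecidableEq F] {k : ℕ}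

namespace SL2Dich

/-- the additive functional `f ↦ (∑ f(upperU a))/q − (∑ f(lowerU b * upperU a))/q²` -/
noncomputable def Lfun : (Matrix.SpecialLinearGroup (Fin 2) F → ℂ) →+ ℂ where
  toFun f := (∑ a : F, f (upperU a)) / (Fintype.card F : ℂ) -
    (∑ a : F, ∑ b : F, f (lowerU b * upperU a)) / (Fintype.card F : ℂ) ^ 2
  map_zero' := by simp
  map_add' f g := by
    simp only [Pi.add_apply, Finset.sum_add_distrib]
    ring

/-- the target set `{0} ∪ [δ, ∞)` as an additive submonoid of `ℂ` -/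
def Sset (δ : ℝ) (hδ : 0 ≤ δ) : AddSubmonoid ℂ where
  carrier := {z | ∃ r : ℝ, z = (r : ℂ) ∧ (r = 0 ∨ δ ≤ r)}
  zero_mem' := ⟨0, by simp, Or.inl rfl⟩
  add_mem' := by
    rintro _ _ ⟨r, rfl, hr⟩ ⟨s, rfl, hs⟩
    refine ⟨r + s, by push_cast; ring, ?_⟩
    rcases hr with rfl | hr
    · rcases hs with rfl | hs
      · left; simp
      · right; simpa using hs
    · rcases hs with rfl | hs
      · right; simpa using hr
      · right; linarith

variable {V : Type*} [AddCommGroup V] [Module ℂ V] [FiniteDimensional ℂ V]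

theorem Lfun_character (R : Representation ℂ (Matrix.SpecialLinearGroup (Fin 2) F) V) :
    Lfun R.character = (fixUS R : ℂ) - ttSL2 R := by
  have hq : (Fintype.card F : ℂ) ≠ 0 := by exact_mod_cast Fintype.card_ne_zero
  show (∑ a : F, R.character (upperU a)) / (Fintype.card F : ℂ) -
    (∑ a : F, ∑ b : F, R.character (lowerU b * upperU a)) / (Fintype.card F : ℂ) ^ 2 = _
  rw [sum_char_upperU, ttSL2]
  field_simp

end SL2Dich

section sl2

variable {V : Type*} [AddCommGroup V] [Module ℂ V] [FiniteDimensional ℂ V]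

/-- [SL2-DICH] -/
theorem sl2_dich (R : Representation ℂ (Matrix.SpecialLinearGroup (Fin 2) F) V) :
    ∃ r : ℝ, (fixUS R : ℂ) - ttSL2 R = (r : ℂ) ∧
      (r = 0 ∨ ((Fintype.card F : ℝ) - 1) / (Fintype.card F : ℝ) ≤ r) := by
  have hδ : (0 : ℝ) ≤ ((Fintype.card F : ℝ) - 1) / (Fintype.card F : ℝ) := by
    have h1 : (1 : ℝ) ≤ (Fintype.card F : ℝ) := by exact_mod_cast Fintype.card_pos
    apply div_nonneg <;> linarith
  have h := Cfsg.Agent.Lib.Helper51.SLMD.additive_char_induction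
    (SL2Dich.Lfun (F := F)) (SL2Dich.Sset _ hδ)
    (fun W _ _ _ R' hR' => by
      obtain ⟨r, hr, hr'⟩ := sl2_dich_irr R' hR'
      rw [SL2Dich.Lfun_character]
      exact ⟨r, hr, hr'⟩) V R
  rw [SL2Dich.Lfun_character] at h
  exact h

end sl2

end Cfsg.Agent.Lib.Helper32.SLMD
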