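import Mathlib
import Cfsg.Agent.Lib.Helper32.SLMD.Defs2
import Cfsg.Agent.Lib.Helper95.SlmdGIndep
import Cfsg.Agent.Lib.Helper65.SlmdGPsi
import Cfsg.Agent.Lib.Helper6.SlmdGUnit
import Cfsg.Agent.Lib.Helper47.SlmdA1B
import Cfsg.Agent.Lib.Helper1.SlmdNArith
import Cfsg.Agent.Lib.Helper1.SlmdNMge2
import Cfsg.Agent.Lib.Helper6.SlmdNCa2
import Cfsg.Agent.Lib.Helper11.SlmdExist
import Cfsg.Agent.Lib.Helper62.SlmdNOrb
import Cfsg.Agent.Lib.Helper31.SlmdNH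
import Cfsg.Agent.Lib.Helper31.SlmdNWdim
import Cfsg.Agent.Lib.Helper42.SlmdNMult
import Cfsg.Agent.Lib.Helper65.SlmdNNontriv
import Cfsg.Agent.Lib.Helper62.SlmdNReindex
import Cfsg.Agent.Lib.Helper11.SlmdUpperK1
import Cfsg.Agent.Lib.Helper11.SlmdUpperK2
import Cfsg.Agent.Lib.Helper44.SlmdTRed
import Cfsg.Agent.Lib.Helper47.SlmdVec
import Cfsg.Agent.Lib.Helper86.SlmdNHform
import Cfsg.Agent.Lib.Helper54.SlmdNPw
import Cfsg.Agent.Lib.Helper44.SlmdA1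
import Cfsg.Agent.Lib.Helper32.SLMD.SL2Dich

/-!
# SLMD (S2332): final assembly of the lower bound (helper32)
-/

set_option autoImplicit false
set_option linter.unusedSectionVars false
set_option linter.unusedVariables false

namespace Cfsg.Agent.Lib.Helper32.SLMD

open Matrix Cfsg.Agent.Lib.Helper41 Cfsg.Agent.Lib.Helper39 Module
open scoped LinearAlgebra.Projectivization

variable {F : Type*} [Field F] [Fintype F] [DecidableEq F] {k : ℕ}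

section gg

variable {V : Type*} [AddCommGroup V] [Module ℂ V] [FiniteDimensional ℂ V]

/-- [N-A1B] -/
theorem a1b [NeZero k] (ρ : Representation ℂ (GG F k) V) (hM : M1 ρ)
    (ψ : Multiplicative F →* ℂˣ) (hψ : ψ ≠ 1) (j : Fin k) :
    finrank ℂ ↥(eigenSub ρ (a1Hom : _ →* GG F k) (prChar ψ j) ⊓
      eigenSub ρ (x2Hom j : _ →* GG F k) 1) = 1 :=
  A1B.a1b_of ρ (m1_char ρ hM) (m1_dim ρ hM) ψ hψ j

/-- [N-CA2] -/
theorem ca2 [NeZero k] (ρ : Representation ℂ (GG F k) V) (hM : M1 ρ) :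
    finrank ℂ ↥(eigenSub ρ (a2Hom : _ →* GG F k) 1) + 1 = cQ ρ + Fintype.card F :=
  Cfsg.Agent.Lib.Helper6.SLMD.ca2_of ρ (m1_char ρ hM) (m1_dim ρ hM)

/-- [N-WDIM] -/
theorem wdim [NeZero k] (hkq : k = 1 ∨ 3 ≤ k ∨ ∃ e : Fˣ, e ^ 2 ≠ 1)
    (ρ : Representation ℂ (GG F k) V) (hM : M1 ρ) (ψ : Multiplicative F →* ℂˣ) (hψ : ψ ≠ 1)
    (j : Fin k) :
    1 ≤ finrank ℂ ↥(eigenSub ρ (a2Hom : _ →* GG F k) 1 ⊓
      eigenSub ρ (a1Hom : _ →* GG F k) (prChar ψ j)) :=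
  wdim_of hkq ρ hM ψ hψ j (qChar_ne_one ψ hψ j)
    (fun hk i hij ℓ hℓ b => orb_comm hk ρ hM ψ hψ j i hij ℓ hℓ b)
    (fun e he i hij ℓ hℓ b => orb_torus e he ρ hM ψ hψ j i hij ℓ hℓ b)
    (fun ℓ hℓ hℓ0 hfix => vec ρ ψ hψ j ℓ hℓ hℓ0 hfix)

/-- [N-UPPER-K2] -/
theorem upper_k2 [NeZero k] (hk : 2 ≤ k) (hkq : 3 ≤ k ∨ ∃ e : Fˣ, e ^ 2 ≠ 1)
    (ρ : Representation ℂ (GG F k) V) (hM : M1 ρ) : hR ρ + 1 ≤ cQ ρ :=
  Cfsg.Agent.Lib.Helper11.SlmdUpperK2.upper_k2_of hk ρ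
    (fun lam hlam => eigenSub_count ρ a1Hom _ lam hlam)
    (ca2 ρ hM)
    (fun ψ hψ j => wdim (Or.inr hkq) ρ hM ψ hψ j)
    exists_addChar_ne_one
    (fun ψ hψ t ht => scaleChar_ne_one ψ hψ t ht)
    (fun ψ hψ => scaleChar_injective ψ hψ)
    (fun ψ hψ j => prChar_ne_one ψ hψ j)
    (fun ψ ψ' hψ j j' h => prChar_inj ψ ψ' hψ j j' h)

/-- [N-UPPER-K1] -/
theorem upper_k1 (he : ∃ e : Fˣ, e ^ 3 ≠ 1) (ρ : Representation ℂ (GG F 1) V) (hM : M1 ρ) :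
    hR ρ + 1 ≤ cQ ρ := by
  obtain ⟨e, he⟩ := he
  exact Cfsg.Agent.Lib.Helper11.SlmdUpperK1.upper_k1_of ρ hM
    (fun lam hlam => eigenSub_count ρ a1Hom _ lam hlam)
    (fun lam hlam => eigenSub_count ρ x12Hom _ lam hlam)
    (ca2 ρ hM)
    (fun ψ hψ j => wdim (Or.inl rfl) ρ hM ψ hψ j)
    (fun ψ hψ ℓ hℓ b => fix_k1 e he ρ hM ψ hψ ℓ hℓ b)
    exists_addChar_ne_one
    (fun ψ hψ t ht => scaleChar_ne_one ψ hψ t ht)
    (fun ψ hψ => scaleChar_injective ψ hψ)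
    (fun ψ hψ j => prChar_ne_one ψ hψ j)
    (fun ψ ψ' hψ j j' h => prChar_inj ψ ψ' hψ j j' h)
    (fun ψ hψ => sChar_ne_one ψ hψ)

/-- [N-H] -/
theorem h_formula [NeZero k]
    (hex : (k = 1 ∧ ∃ e : Fˣ, e ^ 3 ≠ 1) ∨ (k = 2 ∧ ∃ e : Fˣ, e ^ 2 ≠ 1) ∨ 3 ≤ k)
    (ρ : Representation ℂ (GG F k) V) (hM : M1 ρ) :
    hR ρ + Fintype.card F ^ k = cQ ρ + 1 := by
  have hupper : hR ρ + 1 ≤ cQ ρ := by
    rcases hex with ⟨rfl, he⟩ | ⟨rfl, he⟩ | h3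
    · exact upper_k1 he ρ hM
    · exact upper_k2 le_rfl (Or.inr he) ρ hM
    · exact upper_k2 (by omega) (Or.inl h3) ρ hM
  exact h_formula_of ρ hM (hform ρ) (fun ψ hψ => a1 ρ hM ψ hψ) exists_addChar_ne_one
    (fun ψ hψ => prChar_ne_one ψ hψ 0) hupper

/-- [N-LOWER] -/
theorem lower_GG [NeZero k]
    (hex : (k = 1 ∧ ∃ e : Fˣ, e ^ 3 ≠ 1) ∨ (k = 2 ∧ ∃ e : Fˣ, e ^ 2 ≠ 1) ∨ 3 ≤ k)
    (ρ : Representation ℂ (GG F k) V) (hρ : ρ.IsIrreducible) (h2 : 2 ≤ finrank ℂ V) :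
    (Fintype.card F ^ (k + 2) - Fintype.card F) / (Fintype.card F - 1) ≤ finrank ℂ V := by
  obtain ⟨m, hm, hτ, hD⟩ := mult_uniform ρ
  have hc := cQ_lt_finrank ρ hρ h2
  have hq : 2 ≤ Fintype.card F := Fintype.one_lt_card
  have hm1 : 1 ≤ m := by
    by_contra h
    have h0 : m = 0 := by omega
    subst h0
    simp at hD
    omega
  rcases (show m = 1 ∨ 2 ≤ m by omega) with h1 | h2'
  · subst h1
    have hM : M1 ρ := fun lam hlam => hm lam hlam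
    have hDim := m1_dim ρ hM
    have hh := h_formula hex ρ hM
    have hS := schur_GG ρ hρ
    obtain ⟨r, hr, hr'⟩ := sl2_dich (yRep ρ)
    rw [← hR_eq, ← tPair_eq] at hr
    exact arith (Fintype.card F) k (cQ ρ) (hR ρ) (finrank ℂ V) (tPair ρ) r hq
      (NeZero.one_le) hDim hh hr hr' hS
  · exact bound_of_two_le _ k (cQ ρ) m _ hq h2' hD

end gg

/-- the statement of S2332 -/
theorem slmd_main (n : ℕ) (hn : 3 ≤ n)
    (hex : (n, Fintype.card F) ≠ (3, 2) ∧ (n, Fintype.card F) ≠ (3, 4) ∧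
      (n, Fintype.card F) ≠ (4, 2) ∧ (n, Fintype.card F) ≠ (4, 3)) :
    (∀ (k : ℕ) (ρ : Representation ℂ (Matrix.SpecialLinearGroup (Fin n) F) (Fin k → ℂ)),
      ρ.IsIrreducible → 2 ≤ k →
        (Fintype.card F ^ n - Fintype.card F) / (Fintype.card F - 1) ≤ k) ∧
    (∃ ρ : Representation ℂ (Matrix.SpecialLinearGroup (Fin n) F)
      (Fin ((Fintype.card F ^ n - Fintype.card F) / (Fintype.card F - 1)) → ℂ),
      ρ.IsIrreducible) := by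
  obtain ⟨k, rfl⟩ : ∃ k, n = k + 2 := ⟨n - 2, by omega⟩
  have hk : 1 ≤ k := by omega
  have : NeZero k := ⟨by omega⟩
  have hex' : (k = 1 ∧ ∃ e : Fˣ, e ^ 3 ≠ 1) ∨ (k = 2 ∧ ∃ e : Fˣ, e ^ 2 ≠ 1) ∨ 3 ≤ k := by
    obtain ⟨h1, h2, h3, h4⟩ := hex
    rcases (show k = 1 ∨ k = 2 ∨ 3 ≤ k by omega) with rfl | rfl | h
    · left
      refine ⟨rfl, exists_unit_cube_ne_one ?_ ?_⟩
      · intro hq; exact h1 (by rw [hq])
      · intro hq; exact h2 (by rw [hq])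
    · right; left
      refine ⟨rfl, exists_unit_sq_ne_one ?_ ?_⟩
      · intro hq; exact h3 (by rw [hq])
      · intro hq; exact h4 (by rw [hq])
    · right; right; exact h
  refine ⟨?_, exists_min_rep (k + 2) (by omega)⟩
  intro m ρ hρ hm
  exact lower_reindex k _ (fun V _ _ _ ρ' hρ' h2 => lower_GG hex' ρ' hρ' h2) m ρ hρ hm

end Cfsg.Agent.Lib.Helper32.SLMD
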