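import Mathlib
import Cfsg.Agent.Lib.Helper32.SLMD.Defs2

/-!
# SLMD: conjugation by `levi` elements (helper32)
-/

set_option autoImplicit false
set_option linter.unusedSectionVars false
set_option linter.unusedVariables false

namespace Cfsg.Agent.Lib.Helper32.SLMD

open Matrix Cfsg.Agent.Lib.Helper41 Cfsg.Agent.Lib.Helper39 Module

variable {F : Type*} [Field F] {k : ℕ}

theorem levi_d1_ne_zero (d0 d1 : F) (B : Matrix (Fin k) (Fin k) F) (h : d0 * d1 * B.det = 1) :
    d1 ≠ 0 := by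
  rintro rfl
  simp at h

theorem diag_mul_upperU (d0 d1 : F) (hd1 : d1 ≠ 0) (s : F) :
    diagonal ![d0, d1] * (upperU s).1 = (upperU (d0 * s / d1)).1 * diagonal ![d0, d1] := by
  ext i j
  rw [Matrix.diagonal_mul, Matrix.mul_diagonal]
  fin_cases i <;> fin_cases j <;> simp [coe_upperU]
  field_simp

theorem levi_mul_x12 (d0 d1 : F) (B : Matrix (Fin k) (Fin k) F) (h : d0 * d1 * B.det = 1) (s : F) :
    levi d0 d1 B h * x12 s = x12 (d0 * s / d1) * levi d0 d1 B h := by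
  have hd1 := levi_d1_ne_zero d0 d1 B h
  apply Subtype.ext
  simp only [x12, Matrix.SpecialLinearGroup.coe_mul, coe_levi, coe_iota, fromBlocks_multiply,
    Matrix.mul_zero, Matrix.zero_mul, add_zero, zero_add, Matrix.mul_one, Matrix.one_mul]
  rw [diag_mul_upperU d0 d1 hd1 s]

theorem levi_conj_x12 (d0 d1 : F) (B : Matrix (Fin k) (Fin k) F) (h : d0 * d1 * B.det = 1) (s : F) :
    levi d0 d1 B h * x12 s * (levi d0 d1 B h)⁻¹ = x12 (d0 * s / d1) := by
  rw [levi_mul_x12, mul_assoc, mul_inv_cancel, mul_one]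

theorem levi_conj_uQ2 (d0 d1 : F) (B : Matrix (Fin k) (Fin k) F) (h : d0 * d1 * B.det = 1)
    (M M' : Matrix (Fin 2) (Fin k) F) (hM : diagonal ![d0, d1] * M = M' * B) :
    levi d0 d1 B h * uQ2 M * (levi d0 d1 B h)⁻¹ = uQ2 M' := by
  rw [levi_mul_uQ2 d0 d1 B h M M' hM, mul_assoc, mul_inv_cancel, mul_one]

theorem levi_conj_qEl (d0 d1 : F) (B : Matrix (Fin k) (Fin k) F) (h : d0 * d1 * B.det = 1)
    (s : F) (a a' : Fin k → F) (hM : diagonal ![d0, d1] * rowM a 0 = rowM a' 0 * B) :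
    levi d0 d1 B h * qEl s a * (levi d0 d1 B h)⁻¹ = qEl (d0 * s / d1) a' := by
  unfold qEl a1El
  rw [← levi_conj_x12 d0 d1 B h s, ← levi_conj_uQ2 d0 d1 B h _ _ hM]
  group

theorem levi_conj_a2El (d0 d1 : F) (B : Matrix (Fin k) (Fin k) F) (h : d0 * d1 * B.det = 1)
    (b b' : Fin k → F) (hM : diagonal ![d0, d1] * rowM 0 b = rowM 0 b' * B) :
    levi d0 d1 B h * a2El b * (levi d0 d1 B h)⁻¹ = a2El b' := by
  unfold a2El
  exact levi_conj_uQ2 d0 d1 B h _ _ hM

/-- diagonal Levi element: action on `Q` -/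
theorem levi_diag_conj_qEl (d0 d1 : F) (d : Fin k → F) (hd : ∀ l, d l ≠ 0)
    (h : d0 * d1 * (diagonal d).det = 1) (s : F) (a : Fin k → F) :
    levi d0 d1 (diagonal d) h * qEl s a * (levi d0 d1 (diagonal d) h)⁻¹ =
      qEl (d0 * s / d1) (fun l => d0 * a l / d l) := by
  apply levi_conj_qEl
  ext i j
  have := hd j
  rw [Matrix.diagonal_mul, Matrix.mul_diagonal]
  fin_cases i <;> simp [rowM] <;> field_simp

/-- diagonal Levi element: action on `A₂` -/
theorem levi_diag_conj_a2El (d0 d1 : F) (d : Fin k → F) (hd : ∀ l, d l ≠ 0)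
    (h : d0 * d1 * (diagonal d).det = 1) (b : Fin k → F) :
    levi d0 d1 (diagonal d) h * a2El b * (levi d0 d1 (diagonal d) h)⁻¹ =
      a2El (fun l => d1 * b l / d l) := by
  apply levi_conj_a2El
  ext i j
  have := hd j
  rw [Matrix.diagonal_mul, Matrix.mul_diagonal]
  fin_cases i <;> simp [rowM] <;> field_simp

end Cfsg.Agent.Lib.Helper32.SLMD
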