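import Mathlib
import Cfsg.Agent.Lib.Helper32.SLMD.Defs2

/-!
# SLMD: the line principle (helper32)

If `L = eigenSub ρ qHom lam` is a line and `g` normalizes `Q` fixing `lam`, then `ρ g` acts on `L` by a
nonzero scalar; commutators of such elements fix `L` pointwise.  Also the `levi` conjugation formulas.
-/

set_option autoImplicit false
set_option linter.unusedSectionVars false
set_option linter.unusedVariables false

namespace Cfsg.Agent.Lib.Helper32.SLMD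

open Matrix Cfsg.Agent.Lib.Helper41 Cfsg.Agent.Lib.Helper39 Module

variable {F : Type*} [Field F] {k : ℕ}
variable {V : Type*} [AddCommGroup V] [Module ℂ V]

theorem rho_inv_apply {G : Type*} [Group G] (ρ : Representation ℂ G V) (g : G) (v : V) :
    ρ g⁻¹ (ρ g v) = v := by
  rw [← Module.End.mul_apply, ← map_mul, inv_mul_cancel, map_one, Module.End.one_apply]

theorem rho_apply_inv {G : Type*} [Group G] (ρ : Representation ℂ G V) (g : G) (v : V) :
    ρ g (ρ g⁻¹ v) = v := by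
  rw [← Module.End.mul_apply, ← map_mul, mul_inv_cancel, map_one, Module.End.one_apply]

/-- an element normalizing `Q` and fixing `lam` acts on the line `eigenSub ρ qHom lam` by a scalar -/
theorem line_scalar (ρ : Representation ℂ (GG F k) V)
    (lam : Multiplicative (F × (Fin k → F)) →* ℂˣ)
    (h1 : finrank ℂ ↥(eigenSub ρ (qHom : _ →* GG F k) lam) = 1) (g : GG F k)
    (φ : Multiplicative (F × (Fin k → F)) → Multiplicative (F × (Fin k → F)))
    (hφ : ∀ x, g * qHom x * g⁻¹ = qHom (φ x)) (hlam : ∀ x, lam (φ x) = lam x) {ℓ : V}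
    (hℓ : ℓ ∈ eigenSub ρ (qHom : _ →* GG F k) lam) (hℓ0 : ℓ ≠ 0) :
    ∃ c : ℂ, c ≠ 0 ∧ ρ g ℓ = c • ℓ := by
  have hmem : ρ g⁻¹ ℓ ∈ eigenSub ρ (qHom : _ →* GG F k) lam := by
    refine conj_eigenSub ρ qHom qHom g⁻¹ φ ?_ lam lam hlam hℓ
    intro x
    rw [inv_inv]
    exact hφ x
  have hne : (⟨ℓ, hℓ⟩ : ↥(eigenSub ρ (qHom : _ →* GG F k) lam)) ≠ 0 := by
    intro h
    exact hℓ0 (congrArg Subtype.val h)
  obtain ⟨c, hc⟩ := (finrank_eq_one_iff_of_nonzero' _ hne).mp h1 ⟨ρ g⁻¹ ℓ, hmem⟩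
  have hc' : c • ℓ = ρ g⁻¹ ℓ := congrArg Subtype.val hc
  have hc0 : c ≠ 0 := by
    rintro rfl
    rw [zero_smul] at hc'
    have := rho_apply_inv ρ g ℓ
    rw [← hc', map_zero] at this
    exact hℓ0 this.symm
  refine ⟨c⁻¹, inv_ne_zero hc0, ?_⟩
  have h2 : ρ g (c • ℓ) = ℓ := by rw [hc']; exact rho_apply_inv ρ g ℓ
  rw [map_smul] at h2
  calc ρ g ℓ = c⁻¹ • (c • ρ g ℓ) := by rw [smul_smul, inv_mul_cancel₀ hc0, one_smul]
    _ = c⁻¹ • ℓ := by rw [h2]

/-- the commutator of two elements acting by nonzero scalars on `ℓ` fixes `ℓ` -/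
theorem comm_fix {G : Type*} [Group G] (ρ : Representation ℂ G V) (g u : G) (ℓ : V) (a c : ℂ)
    (ha : a ≠ 0) (hc : c ≠ 0) (hg : ρ g ℓ = a • ℓ) (hu : ρ u ℓ = c • ℓ) :
    ρ (g * u * g⁻¹ * u⁻¹) ℓ = ℓ := by
  have hu' : ρ u⁻¹ ℓ = c⁻¹ • ℓ := by
    have h := rho_inv_apply ρ u ℓ
    rw [hu, map_smul] at h
    calc ρ u⁻¹ ℓ = c⁻¹ • (c • ρ u⁻¹ ℓ) := by rw [smul_smul, inv_mul_cancel₀ hc, one_smul]
      _ = c⁻¹ • ℓ := by rw [h]
  have hg' : ρ g⁻¹ ℓ = a⁻¹ • ℓ := by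
    have h := rho_inv_apply ρ g ℓ
    rw [hg, map_smul] at h
    calc ρ g⁻¹ ℓ = a⁻¹ • (a • ρ g⁻¹ ℓ) := by rw [smul_smul, inv_mul_cancel₀ ha, one_smul]
      _ = a⁻¹ • ℓ := by rw [h]
  rw [map_mul, map_mul, map_mul, Module.End.mul_apply, Module.End.mul_apply, Module.End.mul_apply,
    hu', map_smul, hg', map_smul, map_smul, map_smul, hu, map_smul, map_smul, hg, smul_smul,
    smul_smul, smul_smul]
  have : c⁻¹ * a⁻¹ * c * a = 1 := by field_simp
  rw [this, one_smul]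

end Cfsg.Agent.Lib.Helper32.SLMD
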