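import Mathlib
import Cfsg.Agent.Lib.Helper32.SLMD.Line
import Cfsg.Agent.Lib.Helper32.SLMD.Levi

/-!
# SLMD: [N-ORB-TORUS], [N-FIX], [N-ORB-COMM] (helper32 hedge)
-/

set_option autoImplicit false
set_option linter.unusedSectionVars false
set_option linter.unusedVariables false

namespace Cfsg.Agent.Lib.Helper32.SLMD

open Matrix Cfsg.Agent.Lib.Helper41 Cfsg.Agent.Lib.Helper39 Module
open scoped LinearAlgebra.Projectivization

variable {F : Type*} [Field F] [Fintype F] [DecidableEq F] {k : ℕ}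

namespace Orb

theorem exists_ne_one_apply (ψ : Multiplicative F →* ℂˣ) (hψ : ψ ≠ 1) :
    ∃ c : F, ψ (Multiplicative.ofAdd c) ≠ 1 := by
  by_contra h
  push Not at h
  apply hψ
  apply MonoidHom.ext
  intro x
  simpa using h x.toAdd

theorem qChar_ne_one' (ψ : Multiplicative F →* ℂˣ) (hψ : ψ ≠ 1) (j : Fin k) :
    (qChar ψ j : Multiplicative (F × (Fin k → F)) →* ℂˣ) ≠ 1 := by
  obtain ⟨c, hc⟩ := exists_ne_one_apply ψ hψ
  intro h
  apply hc
  have := DFunLike.congr_fun h (Multiplicative.ofAdd ((0 : F), (Pi.single j c : Fin k → F)))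
  simpa [qChar] using this

theorem sChar_ne_one' (ψ : Multiplicative F →* ℂˣ) (hψ : ψ ≠ 1) :
    (sChar ψ : Multiplicative (F × (Fin k → F)) →* ℂˣ) ≠ 1 := by
  obtain ⟨c, hc⟩ := exists_ne_one_apply ψ hψ
  intro h
  apply hc
  have := DFunLike.congr_fun h (Multiplicative.ofAdd ((c : F), (0 : Fin k → F)))
  simpa [sChar] using this

variable {V : Type*} [AddCommGroup V] [Module ℂ V] [FiniteDimensional ℂ V]

/-- `a2El b` acts on the line `eigenSub ρ qHom lam` by a scalar when it fixes `lam` -/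
theorem a2El_line_scalar (ρ : Representation ℂ (GG F k) V)
    (lam : Multiplicative (F × (Fin k → F)) →* ℂˣ)
    (h1 : finrank ℂ ↥(eigenSub ρ (qHom : _ →* GG F k) lam) = 1) (b : Fin k → F)
    (hlam : ∀ (s : F) (a : Fin k → F),
      lam (Multiplicative.ofAdd (s, a - s • b)) = lam (Multiplicative.ofAdd (s, a)))
    {ℓ : V} (hℓ : ℓ ∈ eigenSub ρ (qHom : _ →* GG F k) lam) (hℓ0 : ℓ ≠ 0) :
    ∃ c : ℂ, c ≠ 0 ∧ ρ (a2El b) ℓ = c • ℓ := by
  refine line_scalar ρ lam h1 (a2El b)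
    (fun x => Multiplicative.ofAdd (x.toAdd.1, x.toAdd.2 - x.toAdd.1 • b)) ?_ ?_ hℓ hℓ0
  · intro x
    exact a2El_conj_qEl b x.toAdd.1 x.toAdd.2
  · intro x
    exact hlam x.toAdd.1 x.toAdd.2

/-- diagonal `levi` acts on the line by a scalar when it fixes `lam` -/
theorem levi_diag_line_scalar (ρ : Representation ℂ (GG F k) V)
    (lam : Multiplicative (F × (Fin k → F)) →* ℂˣ)
    (h1 : finrank ℂ ↥(eigenSub ρ (qHom : _ →* GG F k) lam) = 1)
    (d0 d1 : F) (d : Fin k → F) (hd : ∀ l, d l ≠ 0) (h : d0 * d1 * (diagonal d).det = 1)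
    (hlam : ∀ (s : F) (a : Fin k → F),
      lam (Multiplicative.ofAdd (d0 * s / d1, fun l => d0 * a l / d l)) =
        lam (Multiplicative.ofAdd (s, a)))
    {ℓ : V} (hℓ : ℓ ∈ eigenSub ρ (qHom : _ →* GG F k) lam) (hℓ0 : ℓ ≠ 0) :
    ∃ c : ℂ, c ≠ 0 ∧ ρ (levi d0 d1 (diagonal d) h) ℓ = c • ℓ := by
  refine line_scalar ρ lam h1 (levi d0 d1 (diagonal d) h)
    (fun x => Multiplicative.ofAdd (d0 * x.toAdd.1 / d1, fun l => d0 * x.toAdd.2 l / d l)) ?_ ?_ hℓ hℓ0
  · intro x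
    exact levi_diag_conj_qEl d0 d1 d hd h x.toAdd.1 x.toAdd.2
  · intro x
    exact hlam x.toAdd.1 x.toAdd.2

end Orb

section gg

variable {V : Type*} [AddCommGroup V] [Module ℂ V] [FiniteDimensional ℂ V]

/-- [N-ORB-TORUS] -/
theorem orb_torus [NeZero k] (e : Fˣ) (he : e ^ 2 ≠ 1) (ρ : Representation ℂ (GG F k) V)
    (hM : M1 ρ) (ψ : Multiplicative F →* ℂˣ) (hψ : ψ ≠ 1) (j i : Fin k) (hij : i ≠ j) (ℓ : V)
    (hℓ : ℓ ∈ eigenSub ρ (qHom : _ →* GG F k) (qChar ψ j)) (b : F) :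
    ρ (a2El (Pi.single i b)) ℓ = ℓ := by
  by_cases hℓ0 : ℓ = 0
  · subst hℓ0; simp
  have h1 := hM (qChar ψ j) (Orb.qChar_ne_one' ψ hψ j)
  have he0 : (e : F) ≠ 0 := e.ne_zero
  have he2 : (e : F) ^ 2 - 1 ≠ 0 := by
    intro h
    apply he
    ext
    push_cast
    exact sub_eq_zero.mp h
  set d : Fin k → F := fun l => if l = i then (e : F)⁻¹ else 1 with hd_def
  have hd : ∀ l, d l ≠ 0 := by
    intro l
    simp only [hd_def]
    split_ifs
    · exact inv_ne_zero he0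
    · exact one_ne_zero
  have hdet : (1 : F) * (e : F) * (diagonal d).det = 1 := by
    rw [det_diagonal]
    simp only [hd_def, Finset.prod_ite_eq', Finset.mem_univ, if_true, one_mul]
    exact mul_inv_cancel₀ he0
  set b₀ : F := b / ((e : F) ^ 2 - 1) with hb₀
  -- the torus element acts by a scalar
  obtain ⟨a, ha, hga⟩ := Orb.levi_diag_line_scalar ρ (qChar ψ j) h1 1 (e : F) d hd hdet
    (by
      intro s a
      simp only [qChar, MonoidHom.coe_mk, OneHom.coe_mk, toAdd_ofAdd, hd_def]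
      rw [if_neg (Ne.symm hij)]
      simp) hℓ hℓ0
  -- the root element acts by a scalar
  obtain ⟨c, hc, huc⟩ := Orb.a2El_line_scalar ρ (qChar ψ j) h1 (Pi.single i b₀)
    (by
      intro s a
      simp only [qChar, MonoidHom.coe_mk, OneHom.coe_mk, toAdd_ofAdd, Pi.sub_apply, Pi.smul_apply,
        Pi.single_apply]
      rw [if_neg (Ne.symm hij)]
      simp) hℓ hℓ0
  have hcomm := comm_fix ρ (levi 1 (e : F) (diagonal d) hdet) (a2El (Pi.single i b₀)) ℓ a c ha hc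
    hga huc
  have hel : levi 1 (e : F) (diagonal d) hdet * a2El (Pi.single i b₀) *
      (levi 1 (e : F) (diagonal d) hdet)⁻¹ * (a2El (Pi.single i b₀))⁻¹ = a2El (Pi.single i b) := by
    rw [levi_diag_conj_a2El 1 (e : F) d hd hdet, a2El, a2El, ← uQ2_neg, ← uQ2_add, a2El]
    congr 1
    ext r l
    fin_cases r
    · simp [rowM]
    · simp only [rowM, hd_def, Fin.mk_one, Fin.isValue, Matrix.add_apply, Matrix.neg_apply,
        Matrix.of_apply, Matrix.cons_val_one, Matrix.cons_val_zero, Pi.single_apply]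
      by_cases hl : l = i
      · simp only [hl, if_true, hb₀]
        field_simp
        ring
      · simp [hl]
  rw [hel] at hcomm
  exact hcomm

/-- [N-FIX] -/
theorem fix_k1 (e : Fˣ) (he : e ^ 3 ≠ 1) (ρ : Representation ℂ (GG F 1) V) (hM : M1 ρ)
    (ψ : Multiplicative F →* ℂˣ) (hψ : ψ ≠ 1) (ℓ : V)
    (hℓ : ℓ ∈ eigenSub ρ (qHom : _ →* GG F 1) (sChar ψ)) (b : Fin 1 → F) :
    ρ (a2El b) ℓ = ℓ := by
  by_cases hℓ0 : ℓ = 0
  · subst hℓ0; simp
  have h1 := hM (sChar ψ) (Orb.sChar_ne_one' ψ hψ)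
  have he0 : (e : F) ≠ 0 := e.ne_zero
  have he3 : (e : F) ^ 3 - 1 ≠ 0 := by
    intro h
    apply he
    ext
    push_cast
    exact sub_eq_zero.mp h
  set d : Fin 1 → F := fun _ => ((e : F) ^ 2)⁻¹ with hd_def
  have hd : ∀ l, d l ≠ 0 := fun l => inv_ne_zero (pow_ne_zero 2 he0)
  have hdet : (e : F) * (e : F) * (diagonal d).det = 1 := by
    rw [det_diagonal]
    simp only [hd_def, Finset.prod_const, Finset.card_univ, Fintype.card_fin, pow_one]
    field_simp
  set b₀ : Fin 1 → F := fun l => b l / ((e : F) ^ 3 - 1) with hb₀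
  obtain ⟨a, ha, hga⟩ := Orb.levi_diag_line_scalar ρ (sChar ψ) h1 (e : F) (e : F) d hd hdet
    (by
      intro s a
      simp only [sChar, MonoidHom.coe_mk, OneHom.coe_mk, toAdd_ofAdd]
      rw [mul_div_assoc, mul_comm, div_mul_cancel₀ _ he0]) hℓ hℓ0
  obtain ⟨c, hc, huc⟩ := Orb.a2El_line_scalar ρ (sChar ψ) h1 b₀
    (by
      intro s a
      simp only [sChar, MonoidHom.coe_mk, OneHom.coe_mk, toAdd_ofAdd]) hℓ hℓ0
  have hcomm := comm_fix ρ (levi (e : F) (e : F) (diagonal d) hdet) (a2El b₀) ℓ a c ha hc hga huc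
  have hel : levi (e : F) (e : F) (diagonal d) hdet * a2El b₀ *
      (levi (e : F) (e : F) (diagonal d) hdet)⁻¹ * (a2El b₀)⁻¹ = a2El b := by
    rw [levi_diag_conj_a2El (e : F) (e : F) d hd hdet, a2El, a2El, ← uQ2_neg, ← uQ2_add, a2El]
    congr 1
    ext r l
    fin_cases r
    · simp [rowM]
    · simp only [rowM, hd_def, hb₀, Fin.mk_one, Fin.isValue, Matrix.add_apply, Matrix.neg_apply,
        Matrix.of_apply, Matrix.cons_val_one, Matrix.cons_val_zero]
      field_simp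
      ring
  rw [hel] at hcomm
  exact hcomm

end gg

end Cfsg.Agent.Lib.Helper32.SLMD
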